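import Cfsg.Agent.H373.TS.D4Eval

/-!
# The kernel checks for `³D₄(4)` (helper373)
-/

set_option autoImplicit false

namespace Cfsg.Agent.H373.TS.D4

open Cfsg.Agent.H373.TS.Kc

/-- the check for all Kac coordinates of degree `s` -/
def chkAll (q s B : ℕ) : Bool :=
  (tups [1, 2, 1, 1] s).all fun c => c.all (fun x => x % s == 0) ||
    okT Da4 4 q s cvs4 2 B (c.map fun n : ℕ => (n : ℤ))

theorem chk3 : chkAll 4 3 1270080 = true := by decide +kernel
theorem chk5 : chkAll 4 5 1310400 = true := by decide +kernel
theorem chk7 : chkAll 4 7 1270080 = true := by decide +kernel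
theorem chk13 : chkAll 4 13 811200 = true := by decide +kernel

end Cfsg.Agent.H373.TS.D4
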