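import Cfsg.Agent.H972.CS.Main
import Cfsg.Agent.H931.KC.Alcove

/-!
# `|Ψ+|` by Kac coordinates (helper373)

`D` a tabulated datum of type `M`, `PL` the list of its positive roots. For `f : ℤ^l →+ ZMod s` and `w ∈ W` with
`f ∘ w = q f` the numbers `N v = #{a : f a = v}` satisfy `N v = N (q v)`. With the alcove lemma (helper931) this is a
finite check for every prime `s`:

* `Rf` : the functionals with Kac coordinates, `meets` : they meet all orbits of `W`;
* `psi_le` : `f ∈ Rf`, `f ≠ 0`, `f ∘ w = q f` : `|Ψ+| ≤ B`, if `(tups m s).all (chk PL s q B)`.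
-/

set_option autoImplicit false
set_option linter.unusedSectionVars false

namespace Cfsg.Agent.H373.TS.Kc

open CoxeterSystem Cfsg Cfsg.Lie Cfsg.Lie.ChevalleyDatum
open Cfsg.Agent.ChevalleyStructure Cfsg.Agent.ChevalleyStructure.Elts Cfsg.Agent.ChevalleyStructure.CoxeterGeom
  Cfsg.Agent.ChevalleyStructure.CoxeterGeomTypes Cfsg.Agent.ChevalleyStructure.NPerm
open Cfsg.Agent.Tits.Roots Cfsg.Agent.Tits.Core Cfsg.Agent.Nodes Cfsg.Agent.Nodes.Reps
  Cfsg.Agent.Nodes.RGDChev
open Cfsg.Agent.H129.TorusChar Cfsg.Agent.H129.TorusMain Cfsg.Agent.H972.CS.Main Cfsg.Agent.H931.KC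

/-! ### lists -/

/-- the scalar product -/
def dot : List ℕ → List ℕ → ℕ
  | a :: as, b :: bs => a * b + dot as bs
  | _, _ => 0

theorem dot_ofFn {l : ℕ} (a b : Fin l → ℕ) : dot (List.ofFn a) (List.ofFn b) = ∑ i, a i * b i := by
  induction l with
  | zero => simp [dot]
  | succ n ih => rw [List.ofFn_succ, List.ofFn_succ, dot, ih, Fin.sum_univ_succ]

/-- the lists `c` with `∑ m_i c_i ≤ n` -/
def tups : List ℕ → ℕ → List (List ℕ)
  | [], _ => [[]]
  | m :: ms, n => (List.range (n / m + 1)).flatMap fun c => (tups ms (n - m * c)).map (c :: ·)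

theorem mem_tups : ∀ (m : List ℕ) (n : ℕ) (c : List ℕ), (∀ x ∈ m, 0 < x) → c.length = m.length → dot m c ≤ n →
    c ∈ tups m n
  | [], _, c, _, h1, _ => by
    rw [List.length_nil, List.length_eq_zero_iff] at h1
    rw [h1, tups]
    exact List.mem_singleton.2 rfl
  | m :: ms, n, [], _, h1, _ => by simp at h1
  | m :: ms, n, c :: cs, h0, h1, h2 => by
    rw [dot] at h2
    have hm := h0 m (List.mem_cons_self ..)
    rw [tups, List.mem_flatMap]
    refine ⟨c, ?_, List.mem_map.2 ⟨cs, mem_tups ms _ cs (fun x hx => h0 x (List.mem_cons_of_mem _ hx)) ?_ ?_, rfl⟩⟩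
    · rw [List.mem_range, Nat.lt_succ_iff, Nat.le_div_iff_mul_le hm]
      nlinarith
    · simpa using h1
    · omega

/-- the check -/
def chk (PL : List (List ℕ)) (s q B : ℕ) (c : List ℕ) : Bool :=
  let L := PL.map fun a => dot a c % s
  decide (L.count 0 ≤ B) || c.all (fun x => x % s == 0) ||
    (List.range s).any fun v => L.count v + L.count ((s - v) % s) != L.count (q * v % s) +
      L.count ((s - q * v % s) % s)

/-- the list `PL` is the list of the positive roots -/
structure IsPL (D : ChevalleyDatum) (l : ℕ) (PL : List (List ℕ)) (m : List ℕ) : Prop where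
  eq : (List.range D.nroots).map (fun s => List.ofFn (vec D l s)) =
    PL.reverse.map (List.map fun n : ℕ => -(n : ℤ)) ++ PL.map (List.map fun n : ℕ => (n : ℤ))
  nz : ∀ p ∈ PL, ∃ x ∈ p, x ≠ 0
  len : ∀ p ∈ PL, p.length = l
  m_eq : List.ofFn (hr D l) = m.map fun n : ℕ => (n : ℤ)
  m_pos : ∀ x ∈ m, 0 < x

section

variable {D : ChevalleyDatum} {l : ℕ} {M : CoxeterMatrix (Fin l)} (hp : IsType D l M)

/-- the functionals with Kac coordinates -/
def Rf (D : ChevalleyDatum) (l s : ℕ) : Set ((Fin l → ℤ) →+ ZMod s) :=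
  {f | ∃ (c : Fin l → ℕ) (c0 : ℕ), Kac D l s c c0 ∧ ∀ x, f x = ((∑ i, x i * (c i : ℤ) : ℤ) : ZMod s)}

theorem meets {s : ℕ} (hs : 0 < s) : Meets hp M.toCoxeterSystem (Rf D l s) := by
  intro f
  have : NeZero s := ⟨hs.ne'⟩
  set b : (Fin l → ℤ) →+ ℤ := psi (fun i => ((f (sr i)).val : ℤ)) with hb
  have hbf : ∀ x, ((b x : ℤ) : ZMod s) = f x := by
    intro x
    rw [hb, psi_apply, Int.cast_sum]
    conv_rhs => rw [IsMC.eq_sum_sr x]
    rw [map_sum]
    refine Finset.sum_congr rfl fun i _ => ?_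
    rw [map_zsmul, Int.cast_mul, Int.cast_natCast, ZMod.natCast_zmod_val, zsmul_eq_mul]
  obtain ⟨w, c, c0, hK, hc⟩ := exists_alcove hp hs b
  refine ⟨w, c, c0, hK, fun x => ?_⟩
  have h1 := hc x
  rw [← ZMod.intCast_zmod_eq_zero_iff_dvd, Int.cast_sub, sub_eq_zero] at h1
  rw [h1, hbf]
  rfl

/-! ### counting -/

/-- the number of roots with value `v` -/
def cnt (D : ChevalleyDatum) (l : ℕ) {s : ℕ} (f : (Fin l → ℤ) →+ ZMod s) (v : ZMod s) : ℕ :=
  ((List.range D.nroots).map fun r => f (vec D l r)).count v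

/-- `N v = N (q v)` -/
theorem cnt_mul {s q : ℕ} {f : (Fin l → ℤ) →+ ZMod s} {w : M.Group}
    (hw : ∀ y, f (rep M.toCoxeterSystem hp.isCartan w y) = q • f y) (hq : Nat.Coprime q s) (v : ZMod s) :
    cnt D l f v = cnt D l f (q • v) := by
  classical
  have hc : ∀ v, cnt D l f v = ((Finset.range D.nroots).filter fun r => f (vec D l r) = v).card := by
    intro v
    rw [cnt, List.count_eq_countP, List.countP_map]
    show _ = (Multiset.filter _ (Multiset.range D.nroots)).card
    rw [← Multiset.countP_eq_card_filter]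
    show _ = List.countP _ (List.range D.nroots)
    refine List.countP_congr fun r _ => ?_
    simp
  rw [hc, hc]
  have h1 : ∀ (u : M.Group) (r : ℕ), ∃ r', r < D.nroots → r' < D.nroots ∧
      vec D l r' = rep M.toCoxeterSystem hp.isCartan u (vec D l r) := by
    intro u r
    by_cases hr : r < D.nroots
    · obtain ⟨r', h1, h2⟩ := (isRoot_iff hp M.toCoxeterSystem _).1 ((isRoot_vec hp M.toCoxeterSystem hr).act u)
      exact ⟨r', fun _ => ⟨h1, h2⟩⟩
    · exact ⟨0, fun h => absurd h hr⟩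
  choose φ hφ using h1
  have hunit : ∀ a b : ZMod s, q • a = q • b → a = b := by
    intro a b h
    rw [nsmul_eq_mul, nsmul_eq_mul] at h
    exact (ZMod.unitOfCoprime q hq).isUnit.mul_left_cancel h
  refine Finset.card_bij (fun r _ => φ w r) ?_ ?_ ?_
  · intro r hr
    rw [Finset.mem_filter, Finset.mem_range] at hr ⊢
    obtain ⟨h1, h2⟩ := hφ w r hr.1
    exact ⟨h1, by rw [h2, hw, hr.2]⟩
  · intro r hr r' hr' e
    rw [Finset.mem_filter, Finset.mem_range] at hr hr'
    have h1 := (hφ w r hr.1).2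
    have h2 := (hφ w r' hr'.1).2
    have e' : φ w r = φ w r' := e
    rw [e', h2] at h1
    exact (vec_inj hp hr'.1 hr.1 (rep_injective_apply _ _ w h1)).symm
  · intro r hr
    rw [Finset.mem_filter, Finset.mem_range] at hr
    obtain ⟨h1, h2⟩ := hφ w⁻¹ r hr.1
    refine ⟨φ w⁻¹ r, ?_, ?_⟩
    · rw [Finset.mem_filter, Finset.mem_range]
      refine ⟨h1, hunit _ _ ?_⟩
      rw [← hw, h2, rep_apply_inv, hr.2]
    · obtain ⟨h3, h4⟩ := hφ w (φ w⁻¹ r) h1
      refine vec_inj hp h3 hr.1 ?_
      rw [h4, h2, rep_apply_inv]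

/-- the scalar product with integer lists -/
def dotZ : List ℤ → List ℕ → ℤ
  | a :: as, b :: bs => a * b + dotZ as bs
  | _, _ => 0

omit hp in
theorem dotZ_ofFn {l : ℕ} (a : Fin l → ℤ) (b : Fin l → ℕ) : dotZ (List.ofFn a) (List.ofFn b) = ∑ i, a i * (b i : ℤ) := by
  induction l with
  | zero => simp [dotZ]
  | succ n ih => rw [List.ofFn_succ, List.ofFn_succ, dotZ, ih, Fin.sum_univ_succ]

omit hp in
theorem dotZ_cast : ∀ (a b : List ℕ), dotZ (a.map fun n : ℕ => (n : ℤ)) b = dot a b
  | [], b => by cases b <;> rfl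
  | a :: as, [] => rfl
  | a :: as, b :: bs => by
    rw [List.map_cons, dotZ, dot, dotZ_cast as bs]
    push_cast
    ring

omit hp in
theorem dotZ_neg : ∀ (a b : List ℕ), dotZ (a.map fun n : ℕ => -(n : ℤ)) b = -(dot a b : ℤ)
  | [], b => by cases b <;> rfl
  | a :: as, [] => rfl
  | a :: as, b :: bs => by
    rw [List.map_cons, dotZ, dot, dotZ_neg as bs]
    push_cast
    ring

variable {PL : List (List ℕ)} {m : List ℕ} (hPL : IsPL D l PL m)

include hPL in
omit hp in
theorem map_f {s : ℕ} {f : (Fin l → ℤ) →+ ZMod s} {c : Fin l → ℕ}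
    (hf : ∀ x, f x = ((∑ i, x i * (c i : ℤ) : ℤ) : ZMod s)) :
    ((List.range D.nroots).map fun r => f (vec D l r)) =
      (PL.reverse.map fun p => -((dot p (List.ofFn c) : ℕ) : ZMod s)) ++
        PL.map fun p => ((dot p (List.ofFn c) : ℕ) : ZMod s) := by
  have h1 : ((List.range D.nroots).map fun r => f (vec D l r)) =
      ((List.range D.nroots).map fun r => List.ofFn (vec D l r)).map
        fun L => ((dotZ L (List.ofFn c) : ℤ) : ZMod s) := by
    rw [List.map_map]
    refine List.map_congr_left fun r _ => ?_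
    rw [Function.comp_apply, dotZ_ofFn, hf]
  rw [h1, hPL.eq, List.map_append, List.map_map, List.map_map]
  congr 1
  · refine List.map_congr_left fun p _ => ?_
    rw [Function.comp_apply, dotZ_neg, Int.cast_neg, Int.cast_natCast]
  · refine List.map_congr_left fun p _ => ?_
    rw [Function.comp_apply, dotZ_cast, Int.cast_natCast]

/-- the residues of the positive roots -/
def res (PL : List (List ℕ)) (s : ℕ) (c : List ℕ) : List ℕ := PL.map fun a => dot a c % s

include hPL in
omit hp in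
theorem cnt_eq {s : ℕ} {f : (Fin l → ℤ) →+ ZMod s} {c : Fin l → ℕ}
    (hf : ∀ x, f x = ((∑ i, x i * (c i : ℤ) : ℤ) : ZMod s)) {k : ℕ} (hk : k < s) :
    cnt D l f (k : ZMod s) = (res PL s (List.ofFn c)).count k + (res PL s (List.ofFn c)).count ((s - k) % s) := by
  have hz : ((s : ℕ) : ZMod s) = 0 := ZMod.natCast_self s
  rw [cnt, map_f hPL hf, List.count_append, add_comm, List.map_reverse, List.count_reverse, res]
  congr 1
  · rw [List.count_eq_countP, List.countP_map, List.count_eq_countP, List.countP_map]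
    refine List.countP_congr fun p _ => ?_
    simp only [Function.comp_apply, beq_iff_eq]
    rw [ZMod.natCast_eq_natCast_iff', Nat.mod_eq_of_lt hk]
  · rw [List.count_eq_countP, List.countP_map, List.count_eq_countP, List.countP_map]
    refine List.countP_congr fun p _ => ?_
    simp only [Function.comp_apply, beq_iff_eq]
    rw [neg_eq_iff_eq_neg]
    have e : -((k : ℕ) : ZMod s) = ((s - k : ℕ) : ZMod s) := by
      rw [Nat.cast_sub hk.le, hz, zero_sub]
    rw [e, ZMod.natCast_eq_natCast_iff']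

include hPL hp in
/-- the positive roots killed by `f` -/
theorem psi_card {s : ℕ} {f : (Fin l → ℤ) →+ ZMod s} {c : Fin l → ℕ}
    (hf : ∀ x, f x = ((∑ i, x i * (c i : ℤ) : ℤ) : ZMod s)) :
    (H972.CS.Main.psi M.toCoxeterSystem hp.isCartan f).ncard ≤ (res PL s (List.ofFn c)).count 0 := by
  classical
  set T : Finset (List ℤ) := ((PL.filter fun p => dot p (List.ofFn c) % s = 0).map
    (List.map fun n : ℕ => (n : ℤ))).toFinset with hT
  have h1 : T.card ≤ (res PL s (List.ofFn c)).count 0 := by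
    refine (List.toFinset_card_le _).trans ?_
    rw [List.length_map, ← List.countP_eq_length_filter, res, List.count_eq_countP, List.countP_map]
    refine le_of_eq (List.countP_congr fun p _ => ?_)
    simp
  refine le_trans ?_ h1
  rw [← Set.ncard_coe_finset]
  refine Set.ncard_le_ncard_of_injOn (fun a => List.ofFn a) (fun a ha => ?_) (fun a _ b _ h => List.ofFn_injective h)
    (Finset.finite_toSet _)
  obtain ⟨h2, h3, h4⟩ := ha
  obtain ⟨r, hr, rfl⟩ := (isRoot_iff hp M.toCoxeterSystem _).1 h2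
  have h5 : List.ofFn (vec D l r) ∈ (List.range D.nroots).map fun s => List.ofFn (vec D l s) :=
    List.mem_map.2 ⟨r, List.mem_range.2 hr, rfl⟩
  rw [hPL.eq, List.mem_append, List.mem_map, List.mem_map] at h5
  rcases h5 with ⟨p, hp', e⟩ | ⟨p, hp', e⟩
  · exfalso
    rw [List.mem_reverse] at hp'
    obtain ⟨x, hx, hx0⟩ := hPL.nz p hp'
    have h6 : -(x : ℤ) ∈ List.ofFn (vec D l r) := by
      rw [← e]
      exact List.mem_map.2 ⟨x, hx, rfl⟩
    rw [List.mem_ofFn] at h6
    obtain ⟨i, hi⟩ := h6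
    have h7 := h3 i
    rw [hi] at h7
    have h8 : (0 : ℤ) ≤ -(x : ℤ) := h7
    omega
  · rw [Finset.mem_coe, hT, List.mem_toFinset, List.mem_map]
    refine ⟨p, List.mem_filter.2 ⟨hp', ?_⟩, e⟩
    rw [hf] at h4
    have h6 := dotZ_ofFn (vec D l r) c
    rw [← e, dotZ_cast] at h6
    rw [← h6, Int.cast_natCast, ZMod.natCast_eq_zero_iff] at h4
    exact decide_eq_true (Nat.mod_eq_zero_of_dvd h4)

include hPL hp in
/-- **The bound for `|Ψ+|`.** -/
theorem psi_le {s q B : ℕ} (hs : 0 < s) (hq : Nat.Coprime q s) (hchk : (tups m s).all (chk PL s q B) = true)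
    {f : (Fin l → ℤ) →+ ZMod s} (hR : f ∈ Rf D l s) (hf0 : f ≠ 0) {w : M.Group}
    (hw : ∀ y, f (rep M.toCoxeterSystem hp.isCartan w y) = q • f y) :
    (H972.CS.Main.psi M.toCoxeterSystem hp.isCartan f).ncard ≤ B := by
  obtain ⟨c, c0, hK, hf⟩ := hR
  refine (psi_card hp hPL hf).trans ?_
  have hmem : List.ofFn c ∈ tups m s := by
    refine mem_tups m s _ hPL.m_pos ?_ ?_
    · have h1 := congrArg List.length hPL.m_eq
      rw [List.length_map, List.length_ofFn] at h1
      rw [List.length_ofFn, h1]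
    · have h1 := hK.sum
      have h2 := dotZ_ofFn (hr D l) c
      rw [hPL.m_eq, dotZ_cast] at h2
      rw [← h2] at h1
      have h3 : (0 : ℤ) ≤ c0 := by positivity
      omega
  have h1 := (List.all_eq_true.1 hchk) _ hmem
  rw [chk, Bool.or_eq_true, Bool.or_eq_true] at h1
  rcases h1 with (h1 | h1) | h1
  · exact of_decide_eq_true h1
  · exfalso
    apply hf0
    refine AddMonoidHom.ext fun x => ?_
    rw [hf]
    have h2 : ∀ i, (s : ℤ) ∣ c i := by
      intro i
      have h3 := List.all_eq_true.1 h1 (c i) (List.mem_ofFn.2 ⟨i, rfl⟩)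
      exact Int.natCast_dvd_natCast.2 (Nat.dvd_of_mod_eq_zero (by simpa using h3))
    rw [AddMonoidHom.zero_apply, ZMod.intCast_zmod_eq_zero_iff_dvd]
    exact Finset.dvd_sum fun i _ => (h2 i).mul_left _
  · exfalso
    rw [List.any_eq_true] at h1
    obtain ⟨v, hv, h2⟩ := h1
    rw [List.mem_range] at hv
    have h3 := cnt_mul hp hw hq (v : ZMod s)
    have e : q • ((v : ℕ) : ZMod s) = ((q * v % s : ℕ) : ZMod s) := by
      rw [ZMod.natCast_mod, Nat.cast_mul, nsmul_eq_mul]
    rw [e, cnt_eq hPL hf hv, cnt_eq hPL hf (Nat.mod_lt _ hs)] at h3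
    exact absurd h3 (by simpa [res] using h2)

end

end Cfsg.Agent.H373.TS.Kc
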