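import Cfsg.Agent.H972.CS.LinkOf
import Cfsg.Agent.H373.TS.Twist
import Cfsg.Agent.H373.TS.Kac

/-!
# The evaluation of the centraliser formula in `³D₄(q)` (helper373)

* `D4Da`, `link` : the data of `D₄` for helper972's evaluator;
* `okT_sound` : the bound for one `f`, with the coset of the triality kept.
-/

set_option autoImplicit false
set_option linter.unusedSectionVars false

namespace Cfsg.Agent.H373.TS.D4

open CoxeterSystem Cfsg Cfsg.Lie Cfsg.Lie.ChevalleyDatum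
open Cfsg.Agent.ChevalleyStructure Cfsg.Agent.ChevalleyStructure.Elts Cfsg.Agent.ChevalleyStructure.CoxeterGeom
  Cfsg.Agent.ChevalleyStructure.CoxeterGeomTypes Cfsg.Agent.ChevalleyStructure.NPerm
open Cfsg.Agent.Tits.Roots Cfsg.Agent.Tits.Core Cfsg.Agent.Nodes Cfsg.Agent.Nodes.Reps Cfsg.Agent.Nodes.BNOf
  Cfsg.Agent.Nodes.RGDChev Cfsg.Agent.H129.TorusChar Cfsg.Agent.H129.TorusMain Cfsg.Agent.H972.CS.Main
  Cfsg.Agent.H972.CS.Torus Cfsg.Agent.H972.CS.Eval Cfsg.Agent.H972.CS.LinkOf Cfsg.Agent.H373.TS.Kc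

/-! ### the coset of `g` -/

section coset

variable {Da : Data} {D : ChevalleyDatum} {l : ℕ} {M : CoxeterMatrix (Fin l)} {hp : IsType D l M}
  {W : Type*} [Group W] {cs : CoxeterSystem M W} {B : Fin l → Fin l → ℤ}

/-- `θ cv ≡ cv'` modulo `m` -/
def chkV (Da : Data) (l : ℕ) (cv cv' : List ℤ) (m : ℤ) (V : List ℕ) : Bool :=
  (List.range l).all fun j => (dot cv (V.map fun r => (Da.rt r).getD j 0) - cv'.getD j 0) % m == 0

theorem chkV_of {θ : (Fin l → ℤ) →+ (Fin l → ℤ)} {V : ℕ → ℕ}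
    (hV : ∀ i : Fin l, V i < Da.N ∧ vl l (Da.rt (V i)) = θ (sr i)) {cv cv' : List ℤ} {m : ℤ} (hcv : cv.length = l)
    (h : ∃ y : Fin l → ℤ, θ (vl l cv) - vl l cv' = m • y) : chkV Da l cv cv' m (tup l V) = true := by
  obtain ⟨y, hy⟩ := h
  unfold chkV
  rw [List.all_eq_true]
  intro j hj
  rw [List.mem_range] at hj
  rw [beq_iff_eq, dot_eq l cv _ hcv (by rw [List.length_map, tup_length])]
  have h1 : θ (vl l cv) = ∑ i, vl l cv i • θ (sr i) := by
    conv_lhs => rw [eq_sum_sr (vl l cv)]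
    rw [map_sum]
    exact Finset.sum_congr rfl fun i _ => by rw [map_zsmul]
  have h2 : ∀ i : Fin l, vl l ((tup l V).map fun r => (Da.rt r).getD j 0) i = θ (sr i) ⟨j, hj⟩ := by
    intro i
    unfold vl
    rw [List.getD_eq_getElem?_getD, List.getElem?_map, tup, List.getElem?_map, List.getElem?_range i.2, ← (hV i).2]
    rfl
  have h3 : ∑ i : Fin l, vl l cv i * vl l ((tup l V).map fun r => (Da.rt r).getD j 0) i = θ (vl l cv) ⟨j, hj⟩ := by
    rw [h1, Finset.sum_apply]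
    exact Finset.sum_congr rfl fun i _ => by rw [h2, Pi.smul_apply, smul_eq_mul]
  rw [h3]
  have h4 := congrFun hy ⟨j, hj⟩
  rw [Pi.sub_apply, Pi.smul_apply, smul_eq_mul] at h4
  have h5 : vl l cv' ⟨j, hj⟩ = cv'.getD j 0 := rfl
  rw [← h5, h4]
  exact Int.mul_emod_right _ _

/-- the bound for one `f`, `θ` with `θ p₁ ≡ p₂` modulo `m` for all `p ∈ cvs` -/
def okT (Da : Data) (l q : ℕ) (s : ℤ) (cvs : List (List ℤ × List ℤ)) (m : ℤ) (K : ℕ) (fl : List ℤ) : Bool :=
  (Da.ths l q s fl).all fun acc =>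
    !((cvs.all fun p => chkV Da l p.1 p.2 m acc.reverse) && Da.keep (Da.psiL s fl) acc.reverse) ||
      decide (Da.value l q s fl acc.reverse ≤ K)

theorem okT_sound [Finite W] (L : Link Da hp cs B) {g : (Fin l → ℤ) ≃+ (Fin l → ℤ)}
    (hgr : ∀ a, IsRoot cs hp.isCartan a → IsRoot cs hp.isCartan (g a)) (hgi : ∀ a b, bil B (g a) (g b) = bil B a b)
    {w : W} {q s : ℕ} (hq : 0 < q) {f : (Fin l → ℤ) →+ ZMod s} {fl : List ℤ} (hfl : fl.length = l)
    (hf : ∀ i : Fin l, f (sr i) = ((fl.getD i 0 : ℤ) : ZMod s)) (hP : Pair hp cs g q s f w) {K : ℕ}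
    {cvs : List (List ℤ × List ℤ)} {m : ℤ} (hcos : ∀ p ∈ cvs, p.1.length = l ∧
      ∃ y : Fin l → ℤ, theta hp cs w g (vl l p.1) - vl l p.2 = m • y)
    (hok : okT Da l q s cvs m K fl = true) : ∃ Cw : Finset W, Cov hp cs g f w Cw ∧ val hp cs g q f w Cw ≤ K := by
  have hI : Isom hp cs B (theta hp cs w g) := by
    refine ⟨fun a ha => (hgr a ha).act w, fun a b => ?_⟩
    rw [theta_apply, theta_apply, L.inv, hgi]
  obtain ⟨V, hV⟩ := exists_idx L hI
  obtain ⟨Cw, h1, h2⟩ := val_le L hq hfl hf hV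
  refine ⟨Cw, h1, h2.trans ?_⟩
  unfold okT at hok
  rw [List.all_eq_true] at hok
  have h3 := hok (tup l V).reverse (mem_search L hI hV hfl hf (fun i => q * fl.getD i 0)
    (fun i => fl.getD i 0 % (s : ℤ) == 0) (fun i => by
      rw [hP.mul, hf, nsmul_eq_mul, Int.cast_mul, Int.cast_natCast]) (fun i hi => by
      rw [beq_iff_eq] at hi
      refine hP.pos _ (isRoot_sr cs hp.isCartan i) ?_ ?_
      · intro j
        simp only [sr]
        by_cases h : j = i
        · subst h; simp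
        · simp [h]
      · rw [hf]
        exact eq_of_mod hi))
  rw [List.reverse_reverse] at h3
  have h4 : (cvs.all fun p => chkV Da l p.1 p.2 m (tup l V)) = true := by
    rw [List.all_eq_true]
    intro p hp'
    obtain ⟨h5, h6⟩ := hcos p hp'
    exact chkV_of hV h5 h6
  have h5 : Da.keep (Da.psiL s fl) (tup l V) = true := by
    unfold Data.keep
    rw [List.all_eq_true]
    intro X hX
    rw [decide_eq_true_iff]
    unfold Data.psiL at hX
    rw [List.mem_map] at hX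
    obtain ⟨r, hr, rfl⟩ := hX
    rw [List.mem_filter, Bool.and_eq_true, beq_iff_eq, decide_eq_true_iff, List.mem_range] at hr
    obtain ⟨hr1, hr2, hr3⟩ := hr
    rw [dot_codes L hV _ (L.len r hr1)]
    have h6 := L.isr r hr1
    have h7 : 0 ≤ vl l (Da.rt r) := by
      rcases h6.pos_or_neg with h8 | h8
      · exact h8
      · exfalso
        have h9 := ev_nonpos L h8
        rw [L.cd r hr1, dot_eq l _ _ (L.len r hr1) L.evl] at hr3
        exact absurd hr3 (not_lt.2 h9)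
    have h8 : f (vl l (Da.rt r)) = 0 := by
      rw [f_vl hfl hf _ (L.len r hr1)]
      exact eq_of_mod hr2
    exact ev_nonneg L (hP.pos _ h6 h7 h8)
  rw [h4, h5] at h3
  simpa using h3

/-- vectors fixed by `W` modulo `m` -/
theorem cvi_of {cv : Fin l → ℤ} {m : ℤ} (hcv : ∀ i : Fin l, m ∣ ∑ j, cartanOf D l i j * cv j) (w : W) :
    ∃ y : Fin l → ℤ, rep cs hp.isCartan w cv - cv = m • y := by
  induction w using cs.simple_induction_left with
  | one => exact ⟨0, by rw [map_one, smul_zero]; exact sub_self _⟩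
  | mul_simple_left w i ih =>
    obtain ⟨y, hy⟩ := ih
    obtain ⟨c, hc'⟩ := hcv i
    refine ⟨refl (cartanOf D l) i y - Pi.single i c, ?_⟩
    have h6 : rep cs hp.isCartan w cv = cv + m • y := by rw [← hy]; abel
    rw [rep_mul_apply, rep_simple, h6, map_add, map_zsmul, refl_apply _ _ cv]
    have h7 : pairing (cartanOf D l) i cv = m * c := hc'
    rw [h7, smul_sub]
    have h8 : (Pi.single i (m * c) : Fin l → ℤ) = m • (Pi.single i c : Fin l → ℤ) := by
      rw [← Pi.single_smul, smul_eq_mul]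
    rw [h8]
    abel

end coset

theorem len_tups : ∀ (m : List ℕ) (n : ℕ) (c : List ℕ), c ∈ tups m n → c.length = m.length
  | [], _, c, h => by
    rw [tups, List.mem_singleton] at h
    rw [h]
  | m :: ms, n, c, h => by
    rw [tups, List.mem_flatMap] at h
    obtain ⟨a, -, h⟩ := h
    obtain ⟨c', hc', rfl⟩ := List.mem_map.1 h
    rw [List.length_cons, List.length_cons, len_tups ms _ c' hc']

/-! ### the data of `D₄` -/

/-- the roots -/
def RtL : List (List ℤ) :=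
  [[-1, -2, -1, -1], [-1, -1, -1, -1], [-1, -1, -1, 0], [-1, -1, 0, -1], [-1, -1, 0, 0], [-1, 0, 0, 0],
    [0, -1, -1, -1], [0, -1, -1, 0], [0, -1, 0, -1], [0, -1, 0, 0], [0, 0, -1, 0], [0, 0, 0, -1],
    [0, 0, 0, 1], [0, 0, 1, 0], [0, 1, 0, 0], [0, 1, 0, 1], [0, 1, 1, 0], [0, 1, 1, 1],
    [1, 0, 0, 0], [1, 1, 0, 0], [1, 1, 0, 1], [1, 1, 1, 0], [1, 1, 1, 1], [1, 2, 1, 1]]

/-- the products with the simple roots -/
def GrL : List (List ℤ) :=
  [[0, -1, 0, 0], [-1, 1, -1, -1], [-1, 0, -1, 1], [-1, 0, 1, -1], [-1, -1, 1, 1], [-2, 1, 0, 0],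
    [1, 0, -1, -1], [1, -1, -1, 1], [1, -1, 1, -1], [1, -2, 1, 1], [0, 1, -2, 0], [0, 1, 0, -2],
    [0, -1, 0, 2], [0, -1, 2, 0], [-1, 2, -1, -1], [-1, 1, -1, 1], [-1, 1, 1, -1], [-1, 0, 1, 1],
    [2, -1, 0, 0], [1, 1, -1, -1], [1, 0, -1, 1], [1, 0, 1, -1], [1, -1, 1, 1], [0, 1, 0, 0]]

def R0 : ℕ := 4091447561229111247022462172460649121599804456474177922758452374082510828339675558019775898827309423579367656868826850374474362217175498169800607862915847242264260959812640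
def R1 : ℕ := 14594637506391624397212002820292866156720553387808937937686804671188636717540071921323924288017937115977086288818369287110075427470299442567702739070337307813589095792640

/-- the data -/
def Da4 : Data where
  N := 24
  Rt := RtL
  ev := [1, 64, 4, 16]
  Cd := [-149, -85, -69, -81, -65, -1, -84, -68, -80, -64, -4, -16, 16, 4, 64, 80, 68, 84, 1, 65, 81, 69, 85, 149]
  rel := fun i j => if i = 1 ∨ j = 1 then R1 else R0
  cv := [0, 0, 1, 1]
  m := 2

def B4 : Fin 4 → Fin 4 → ℤ := ![![2, -1, 0, 0], ![-1, 2, -1, -1], ![0, -1, 2, 0], ![0, -1, 0, 2]]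

def RF : ℤ → ℕ := fun b => if b = 0 then R0 else R1

theorem all_chk : allChk RF [0, -1] 24 RtL GrL 0 = true := by decide +kernel

theorem link4 : Link Da4 RGDTwD4.hp coxeterD4.toCoxeterSystem B4 := by
  refine link_of RGDTwD4.hp coxeterD4.toCoxeterSystem Da4 B4 GrL RF [0, -1] (by decide +kernel) (by decide +kernel)
    (by decide +kernel) ?_ ?_ (by decide +kernel) (by decide +kernel) (by decide +kernel) (by decide +kernel)
    (by decide +kernel) (by decide +kernel) (by decide +kernel) all_chk (by decide +kernel) ?_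
  · decide +kernel
  · decide +kernel
  · show ∀ i : Fin 4, (2 : ℤ) ∣ ∑ j, cartanOf chevD4 4 i j * vl 4 [0, 0, 1, 1] j
    decide +kernel

/-! ### the triality -/

open Cfsg.Agent.H27.Exc Cfsg.Agent.ChevalleyStructure.GraphSymm

theorem perm_root (a : Fin 4 → ℤ) (ha : IsRoot coxeterD4.toCoxeterSystem RGDTwD4.hp.isCartan a) :
    IsRoot coxeterD4.toCoxeterSystem RGDTwD4.hp.isCartan (TwFr.permE TwFr.rho4 a) := by
  obtain ⟨r, hr, rfl⟩ := (isRoot_iff RGDTwD4.hp _ a).1 ha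
  have h := TwFr.VecPerm.vec TwFr.vecPerm4 ⟨r, hr⟩
  exact (isRoot_iff RGDTwD4.hp _ _).2 ⟨_, (symmD4a.σ ⟨r, hr⟩).2, h⟩

theorem perm_inv (a b : Fin 4 → ℤ) : bil B4 (TwFr.permE TwFr.rho4 a) (TwFr.permE TwFr.rho4 b) = bil B4 a b := by
  have h : ∀ (a : Fin 4 → ℤ) (i : Fin 4), TwFr.permE TwFr.rho4 a i = a (![3, 1, 0, 2] i) := fun a i => rfl
  unfold bil
  simp only [h, Fin.sum_univ_four]
  simp [B4]
  ring

/-- the coset conditions -/
def cvs4 : List (List ℤ × List ℤ) := [([0, 0, 1, 1], [1, 0, 0, 1]), ([1, 0, 0, 1], [1, 0, 1, 0])]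

theorem cos4 (w : coxeterD4.Group) : ∀ p ∈ cvs4, p.1.length = 4 ∧ ∃ y : Fin 4 → ℤ,
    theta RGDTwD4.hp coxeterD4.toCoxeterSystem w (TwFr.permE TwFr.rho4) (vl 4 p.1) - vl 4 p.2 = (2 : ℤ) • y := by
  intro p hp'
  have key : ∀ p ∈ cvs4, p.1.length = 4 ∧ TwFr.permE TwFr.rho4 (vl 4 p.1) = vl 4 p.2 ∧
      ∀ i : Fin 4, (2 : ℤ) ∣ ∑ j, cartanOf chevD4 4 i j * vl 4 p.2 j := by
    intro p hp'
    simp only [cvs4, List.mem_cons, List.not_mem_nil, or_false] at hp'
    rcases hp' with rfl | rfl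
    · exact ⟨rfl, by funext i; fin_cases i <;> rfl, by decide +kernel⟩
    · exact ⟨rfl, by funext i; fin_cases i <;> rfl, by decide +kernel⟩
  obtain ⟨h1, h2, h3⟩ := key p hp'
  refine ⟨h1, ?_⟩
  rw [theta_apply, h2]
  exact cvi_of (hp := RGDTwD4.hp) h3 w

end Cfsg.Agent.H373.TS.D4
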