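import Cfsg.Agent.H373.TS.Kac

/-!
# The positive roots of `E₇` and the Kac checks for `q = 3` (helper373)
-/

set_option autoImplicit false

namespace Cfsg.Agent.H373.TS

open Cfsg Cfsg.Lie Cfsg.Lie.ChevalleyDatum Cfsg.Agent.Nodes.RGDChev Cfsg.Agent.H373.TS.Kc

/-! ### `E₇` -/

/-- the positive roots of `E₇` -/
def PL7 : List (List ℕ) :=
  [[0,0,0,0,0,0,1], [0,0,0,0,0,1,0], [0,0,0,0,0,1,1], [0,0,0,0,1,0,0], [0,0,0,0,1,1,0],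
    [0,0,0,0,1,1,1], [0,0,0,1,0,0,0], [0,0,0,1,1,0,0], [0,0,0,1,1,1,0], [0,0,0,1,1,1,1],
    [0,0,1,0,0,0,0], [0,0,1,1,0,0,0], [0,0,1,1,1,0,0], [0,0,1,1,1,1,0], [0,0,1,1,1,1,1],
    [0,1,0,0,0,0,0], [0,1,0,1,0,0,0], [0,1,0,1,1,0,0], [0,1,0,1,1,1,0], [0,1,0,1,1,1,1],
    [0,1,1,1,0,0,0], [0,1,1,1,1,0,0], [0,1,1,1,1,1,0], [0,1,1,1,1,1,1], [0,1,1,2,1,0,0],
    [0,1,1,2,1,1,0], [0,1,1,2,1,1,1], [0,1,1,2,2,1,0], [0,1,1,2,2,1,1], [0,1,1,2,2,2,1],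
    [1,0,0,0,0,0,0], [1,0,1,0,0,0,0], [1,0,1,1,0,0,0], [1,0,1,1,1,0,0], [1,0,1,1,1,1,0],
    [1,0,1,1,1,1,1], [1,1,1,1,0,0,0], [1,1,1,1,1,0,0], [1,1,1,1,1,1,0], [1,1,1,1,1,1,1],
    [1,1,1,2,1,0,0], [1,1,1,2,1,1,0], [1,1,1,2,1,1,1], [1,1,1,2,2,1,0], [1,1,1,2,2,1,1],
    [1,1,1,2,2,2,1], [1,1,2,2,1,0,0], [1,1,2,2,1,1,0], [1,1,2,2,1,1,1], [1,1,2,2,2,1,0],
    [1,1,2,2,2,1,1], [1,1,2,2,2,2,1], [1,1,2,3,2,1,0], [1,1,2,3,2,1,1], [1,1,2,3,2,2,1],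
    [1,1,2,3,3,2,1], [1,2,2,3,2,1,0], [1,2,2,3,2,1,1], [1,2,2,3,2,2,1], [1,2,2,3,3,2,1],
    [1,2,2,4,3,2,1], [1,2,3,4,3,2,1], [2,2,3,4,3,2,1]]

set_option maxRecDepth 100000 in
theorem isPL7 : IsPL chevE7 7 PL7 [2, 2, 3, 4, 3, 2, 1] where
  eq := by decide +kernel
  nz := by decide +kernel
  len := by decide +kernel
  m_eq := by decide +kernel
  m_pos := by decide +kernel

theorem chk2 : (tups [2, 2, 3, 4, 3, 2, 1] 2).all (chk PL7 2 3 36) = true := by decide +kernel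
theorem chk5 : (tups [2, 2, 3, 4, 3, 2, 1] 5).all (chk PL7 5 3 22) = true := by decide +kernel
theorem chk7 : (tups [2, 2, 3, 4, 3, 2, 1] 7).all (chk PL7 7 3 22) = true := by decide +kernel
theorem chk11 : (tups [2, 2, 3, 4, 3, 2, 1] 11).all (chk PL7 11 3 22) = true := by decide +kernel
theorem chk13 : (tups [2, 2, 3, 4, 3, 2, 1] 13).all (chk PL7 13 3 22) = true := by decide +kernel

end Cfsg.Agent.H373.TS
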