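import Cfsg.Agent.H373.TS.Untw
import Cfsg.Agent.H373.TS.ESevenDat
import Cfsg.Agent.H448.FprCent.Det
import Cfsg.Agent.S1093
import Cfsg.Agent.S1064

/-!
# The class sizes of the elements of order 2, 5, 7, 11, 13 of `E₇(3)` (S5745, helper373)

`cG_two`, `cG_five`, `cG_seven`, `cG_eleven`, `cG_thirteen` : for `|F| = 3`, `x : chevE7.group F` of order `r` the class of
`x` has at least `2^58`, `2^100`, `2^100`, `2^100`, `2^100` elements; `cG_ge` : all of them.
-/

set_option autoImplicit false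
set_option linter.unusedSectionVars false

namespace Cfsg.Agent.H373.TS

open CoxeterSystem Subgroup Cfsg Cfsg.Lie Cfsg.Lie.ChevalleyDatum
open Cfsg.Agent.ChevalleyStructure Cfsg.Agent.ChevalleyStructure.Elts Cfsg.Agent.ChevalleyStructure.CoxeterGeom
  Cfsg.Agent.ChevalleyStructure.CoxeterGeomTypes Cfsg.Agent.ChevalleyStructure.NPerm
open Cfsg.Agent.Tits.Roots Cfsg.Agent.Nodes.RGDChev Cfsg.Agent.BpExc.FamExt
open Cfsg.Agent.H129.TorusMain Cfsg.Agent.H972.CS Cfsg.Agent.H972.CS.Main Cfsg.Agent.H373.TS.Kc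

/-! ### the crude value of the formula -/

section crude

variable {D : ChevalleyDatum} {l : ℕ} {M : CoxeterMatrix (Fin l)} (hp : IsType D l M)

theorem finite_roots : {a : Fin l → ℤ | IsRoot M.toCoxeterSystem hp.isCartan a}.Finite := by
  refine ((Finset.range D.nroots).finite_toSet.image (vec D l)).subset ?_
  intro a ha
  obtain ⟨r, hr, e⟩ := (isRoot_iff hp M.toCoxeterSystem a).1 ha
  exact ⟨r, Finset.mem_coe.2 (Finset.mem_range.2 hr), e⟩

/-- **The crude bound.** -/
theorem val_le {s q B : ℕ} (hq : 0 < q) {f : (Fin l → ℤ) →+ ZMod s} {w : M.Group} [Fintype M.Group]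
    (hB : (psi M.toCoxeterSystem hp.isCartan f).ncard ≤ B) :
    val hp M.toCoxeterSystem (AddEquiv.refl (Fin l → ℤ)) q f w Finset.univ ≤
      (q + 1) ^ l * (q ^ B * (Nat.card M.Group * q ^ B)) := by
  classical
  have hfin : (psi M.toCoxeterSystem hp.isCartan f).Finite := (finite_roots hp).subset fun a ha => ha.1
  rw [val]
  refine Nat.mul_le_mul ?_ (Nat.mul_le_mul (Nat.pow_le_pow_right hq hB) ?_)
  · have hN : orderOf w ≠ 0 := (isOfFinOrder_of_finite w).orderOf_pos.ne'
    have h1 : (rep M.toCoxeterSystem hp.isCartan w) ^ orderOf w = 1 := by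
      rw [← map_pow, pow_orderOf_eq_one, map_one]
    have h2 := H448.FprCent.natAbs_det_le hN h1 q
    have e : Torus.gq (theta hp M.toCoxeterSystem w (AddEquiv.refl (Fin l → ℤ))) q =
        rep M.toCoxeterSystem hp.isCartan w - (q : ℤ) • (1 : Module.End ℤ (Fin l → ℤ)) := by
      ext x
      rfl
    rw [e]
    exact h2
  · rw [Nat.card_eq_fintype_card, ← Finset.card_univ, ← smul_eq_mul]
    refine Finset.sum_le_card_nsmul _ _ _ fun v _ => Nat.pow_le_pow_right hq ?_
    have h3 : psiN M.toCoxeterSystem hp.isCartan f v ⊆ psi M.toCoxeterSystem hp.isCartan f :=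
      fun a ha => ⟨ha.1, ha.2.1, ha.2.2.1⟩
    exact (Set.ncard_le_ncard h3 hfin).trans hB

end crude

section

variable {F : Type} [Field F] [Fintype F]

theorem cent_le (hF : Fintype.card F = 3) {s B : ℕ} (hs : s.Prime) (hs3 : s ≠ 3)
    (hchk : (tups [2, 2, 3, 4, 3, 2, 1] s).all (chk PL7 s 3 B) = true) {x : ↥(chevE7.group F)} (hx : orderOf x = s) :
    Nat.card ↥(Subgroup.centralizer {x}) ≤ 4 ^ 7 * (3 ^ B * (2903040 * 3 ^ B)) := by
  classical
  have : Fact (Nat.Prime 3) := ⟨by norm_num⟩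
  have : CharP F 3 := charP_of_card_eq_prime hF
  have hp := BpExc.RowsUntw.e7T
  have hfin : Finite CoxeterMatrix.E₇.Group := finite_W hp CoxeterMatrix.E₇.toCoxeterSystem
  have : Fintype CoxeterMatrix.E₇.Group := Fintype.ofFinite _
  obtain ⟨f, h1, h2, w, h3, h4⟩ := bound_untw hp (n := 1) one_pos (by rw [hF, pow_one]) BpExc.FamInst.inv_E7
    (by norm_num) hs hs3 (meets hp hs.pos) (x := x) (by rw [← hx, pow_orderOf_eq_one])
    (fun h => hs.one_lt.ne' (by rw [← hx, h, orderOf_one]))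
  have h5 := h4 Finset.univ (fun v _ _ => Finset.mem_univ v)
  refine h5.trans ?_
  have hcop : Nat.Coprime 3 s := (Nat.coprime_primes (by norm_num) hs).2 (Ne.symm hs3)
  have h6 := psi_le hp isPL7 hs.pos hcop hchk h1 h2 (w := w) (fun y => h3.mul y)
  have h7 := val_le hp (q := 3 ^ 1) (by norm_num) (w := w) h6
  rw [S1093.result (⟨7, CoxeterMatrix.E₇⟩, 2903040) (by simp)] at h7
  exact h7

theorem card_G (hF : Fintype.card F = 3) : 2 * Nat.card ↥(chevE7.group F) = 3 ^ 63 * (3 ^ 2 - 1) * (3 ^ 6 - 1) *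
    (3 ^ 8 - 1) * (3 ^ 10 - 1) * (3 ^ 12 - 1) * (3 ^ 14 - 1) * (3 ^ 18 - 1) := by
  have h := S1064.result hF
  norm_num at h ⊢
  omega

open Cfsg.Agent.H742.EX

theorem cG_two (hF : Fintype.card F = 3) {x : ↥(chevE7.group F)} (hx : orderOf x = 2) : 2 ^ 58 ≤ cG x := by
  refine le_cG (cent_le hF (by norm_num) (by norm_num) chk2 hx) (by positivity) ?_
  have h := card_G hF
  norm_num at h ⊢
  omega

theorem cG_five (hF : Fintype.card F = 3) {x : ↥(chevE7.group F)} (hx : orderOf x = 5) : 2 ^ 100 ≤ cG x := by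
  refine le_cG (cent_le hF (by norm_num) (by norm_num) chk5 hx) (by positivity) ?_
  have h := card_G hF
  norm_num at h ⊢
  omega

theorem cG_seven (hF : Fintype.card F = 3) {x : ↥(chevE7.group F)} (hx : orderOf x = 7) : 2 ^ 100 ≤ cG x := by
  refine le_cG (cent_le hF (by norm_num) (by norm_num) chk7 hx) (by positivity) ?_
  have h := card_G hF
  norm_num at h ⊢
  omega

theorem cG_eleven (hF : Fintype.card F = 3) {x : ↥(chevE7.group F)} (hx : orderOf x = 11) : 2 ^ 100 ≤ cG x := by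
  refine le_cG (cent_le hF (by norm_num) (by norm_num) chk11 hx) (by positivity) ?_
  have h := card_G hF
  norm_num at h ⊢
  omega

theorem cG_thirteen (hF : Fintype.card F = 3) {x : ↥(chevE7.group F)} (hx : orderOf x = 13) : 2 ^ 100 ≤ cG x := by
  refine le_cG (cent_le hF (by norm_num) (by norm_num) chk13 hx) (by positivity) ?_
  have h := card_G hF
  norm_num at h ⊢
  omega

/-- **The class sizes in `E₇(3)`.** -/
theorem cG_ge (hF : Fintype.card F = 3) (x : ↥(chevE7.group F)) : (orderOf x = 2 → 2 ^ 58 ≤ cG x) ∧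
    (orderOf x = 5 → 2 ^ 100 ≤ cG x) ∧ (orderOf x = 7 → 2 ^ 100 ≤ cG x) ∧ (orderOf x = 11 → 2 ^ 100 ≤ cG x) ∧
    (orderOf x = 13 → 2 ^ 100 ≤ cG x) :=
  ⟨cG_two hF, cG_five hF, cG_seven hF, cG_eleven hF, cG_thirteen hF⟩

end

end Cfsg.Agent.H373.TS
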