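import Cfsg.Agent.H373.TS.D4Chk
import Cfsg.Agent.H373.TS.Untw
import Cfsg.Agent.S1067

/-!
# The centralisers of the elements of order 3, 5, 7, 13 of `³D₄(4)` (S5745, helper373)

* `cent_three`, `cent_five`, `cent_seven`, `cent_thirteen` : `|C(x)| ≤ 1270080`, `1310400`, `1270080`, `811200`;
* `cG_ge` : the classes have at least `2^35` elements.
-/

set_option autoImplicit false
set_option linter.unusedSectionVars false

namespace Cfsg.Agent.H373.TS.D4

open CoxeterSystem Cfsg Cfsg.Lie Cfsg.Lie.ChevalleyDatum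
open Cfsg.Agent.ChevalleyStructure Cfsg.Agent.ChevalleyStructure.Elts Cfsg.Agent.ChevalleyStructure.CoxeterGeom
  Cfsg.Agent.ChevalleyStructure.CoxeterGeomTypes Cfsg.Agent.ChevalleyStructure.NPerm
open Cfsg.Agent.Nodes Cfsg.Agent.Nodes.RGDChev Cfsg.Agent.H972.CS.Main Cfsg.Agent.H972.CS.LinkOf
  Cfsg.Agent.H373.TS.Kc Cfsg.Agent.H373.TS.Twist
open Cfsg.Agent.H27.Exc

/-- the functionals -/
def fls (s : ℕ) : List (List ℤ) := (tups [1, 2, 1, 1] s).map fun c => c.map fun n : ℕ => (n : ℤ)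

theorem hr4 : H931.KC.hr chevD4 4 = ![1, 2, 1, 1] := by decide +kernel

theorem mem_tups4 {s : ℕ} {c : Fin 4 → ℕ} {c0 : ℕ} (h : H931.KC.Kac chevD4 4 s c c0) :
    List.ofFn c ∈ tups [1, 2, 1, 1] s := by
  refine mem_tups _ s _ (by decide) (by rw [List.length_ofFn]; rfl) ?_
  have h1 := h.sum
  rw [hr4, Fin.sum_univ_four] at h1
  have h2 : dot [1, 2, 1, 1] (List.ofFn c) = c 0 + 2 * c 1 + c 2 + c 3 := by
    simp [List.ofFn_succ, dot]
    ring_nf
  rw [h2]
  simp at h1
  omega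

theorem meets4 {s : ℕ} (hs : 0 < s) : Meets RGDTwD4.hp coxeterD4.toCoxeterSystem (RfL 4 s (fls s)) := by
  refine meets_alcove RGDTwD4.hp hs (fls s) fun c c0 h => ?_
  refine ⟨(List.ofFn c).map fun n : ℕ => (n : ℤ), List.mem_map.2 ⟨_, mem_tups4 h, rfl⟩, fun i => ?_⟩
  rw [List.getD_eq_getElem?_getD, List.getElem?_map, List.getElem?_ofFn]
  simp

section

variable {K : Type} [Field K] [Fintype K]

theorem cent_le (hK : Fintype.card K = 64) {s B : ℕ} (hs : s.Prime) (hs2 : s ≠ 2) (hchk : chkAll 4 s B = true)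
    {x : ↥(twistedD4 K 4)} (hx : orderOf x = s) : Nat.card ↥(Subgroup.centralizer {x}) ≤ B := by
  classical
  have : Fact (Nat.Prime 2) := ⟨Nat.prime_two⟩
  have : CharP K 2 := by
    obtain ⟨p, hp⟩ := CharP.exists K
    obtain ⟨n, hpp, hn⟩ := FiniteField.card K p
    have h1 : p = 2 := by
      have h2 : p ∣ 64 := by
        rw [← hK, hn]
        exact dvd_pow_self p n.2.ne'
      have h3 : p ∣ 2 := hpp.dvd_of_dvd_pow (show p ∣ 2 ^ 6 by norm_num; exact h2)
      exact (Nat.prime_dvd_prime_iff_eq hpp Nat.prime_two).1 h3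
    rwa [h1] at hp
  have hfin : Finite coxeterD4.Group := finite_W RGDTwD4.hp coxeterD4.toCoxeterSystem
  obtain ⟨f, h1, h2, w, h3, h4⟩ := bound_twD4 (q := 4) (r := 2) (n := 2) (by norm_num) (by norm_num)
    (by rw [hK]; norm_num) hs hs2 (meets4 hs.pos) (x := x) (by rw [← hx, pow_orderOf_eq_one])
    (fun h => hs.one_lt.ne' (by rw [← hx, h, orderOf_one]))
  obtain ⟨fl, hfl, hf⟩ := h1
  obtain ⟨cc, hc, rfl⟩ := List.mem_map.1 hfl
  have hlen : cc.length = 4 := len_tups _ _ cc hc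
  have h5 := (List.all_eq_true.1 hchk) cc hc
  rw [Bool.or_eq_true] at h5
  rcases h5 with h5 | h5
  · exfalso
    apply h2
    refine AddMonoidHom.ext fun y => ?_
    rw [H129.TorusChar.IsMC.eq_sum_sr y, map_sum]
    refine Finset.sum_eq_zero fun i _ => ?_
    rw [map_zsmul, hf]
    have h6 : ((cc.map fun n : ℕ => (n : ℤ)).getD i 0) = ((cc.getD i 0 : ℕ) : ℤ) := by
      rw [List.getD_eq_getElem?_getD, List.getD_eq_getElem?_getD, List.getElem?_map]
      cases cc[(i : ℕ)]? <;> rfl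
    have h7 : cc.getD i 0 % s = 0 := by
      rw [List.getD_eq_getElem?_getD]
      cases h8 : cc[(i : ℕ)]? with
      | none => simp
      | some a =>
        have h9 := List.all_eq_true.1 h5 a (List.mem_of_getElem? h8)
        simpa using h9
    rw [h6, Int.cast_natCast, (ZMod.natCast_eq_zero_iff _ _).2 (Nat.dvd_of_mod_eq_zero h7), smul_zero]
  · obtain ⟨Cw, h6, h7⟩ := okT_sound link4 perm_root perm_inv (by norm_num) (by rw [List.length_map, hlen]) hf h3
      (cos4 w) h5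
    exact (h4 Cw h6).trans h7

theorem cent_three (hK : Fintype.card K = 64) {x : ↥(twistedD4 K 4)} (hx : orderOf x = 3) :
    Nat.card ↥(Subgroup.centralizer {x}) ≤ 1270080 := cent_le hK (by norm_num) (by norm_num) chk3 hx

theorem cent_five (hK : Fintype.card K = 64) {x : ↥(twistedD4 K 4)} (hx : orderOf x = 5) :
    Nat.card ↥(Subgroup.centralizer {x}) ≤ 1310400 := cent_le hK (by norm_num) (by norm_num) chk5 hx

theorem cent_seven (hK : Fintype.card K = 64) {x : ↥(twistedD4 K 4)} (hx : orderOf x = 7) :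
    Nat.card ↥(Subgroup.centralizer {x}) ≤ 1270080 := cent_le hK (by norm_num) (by norm_num) chk7 hx

theorem cent_thirteen (hK : Fintype.card K = 64) {x : ↥(twistedD4 K 4)} (hx : orderOf x = 13) :
    Nat.card ↥(Subgroup.centralizer {x}) ≤ 811200 := cent_le hK (by norm_num) (by norm_num) chk13 hx

theorem card_G (hK : Fintype.card K = 64) : Nat.card ↥(twistedD4 K 4) =
    4 ^ 12 * (4 ^ 2 - 1) * (4 ^ 6 - 1) * (4 ^ 8 + 4 ^ 4 + 1) :=
  S1067.result (q := 4) ((isPrimePow_nat_iff _).2 ⟨2, 2, Nat.prime_two, by norm_num, by norm_num⟩)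
    (by rw [hK]; norm_num)

open Cfsg.Agent.H742.EX

/-- **The class sizes in `³D₄(4)`.** -/
theorem cG_ge (hK : Fintype.card K = 64) (x : ↥(twistedD4 K 4)) {s : ℕ}
    (hs : s = 3 ∨ s = 5 ∨ s = 7 ∨ s = 13) (hx : orderOf x = s) : 2 ^ 35 ≤ cG x := by
  have hc := card_G hK
  have hfin : Finite ↥(twistedD4 K 4) := Nat.finite_of_card_ne_zero (by rw [hc]; norm_num)
  have h1 : Nat.card ↥(Subgroup.centralizer {x}) ≤ 1310400 := by
    rcases hs with rfl | rfl | rfl | rfl
    · exact (cent_three hK hx).trans (by norm_num)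
    · exact cent_five hK hx
    · exact (cent_seven hK hx).trans (by norm_num)
    · exact (cent_thirteen hK hx).trans (by norm_num)
  exact le_cG h1 (by norm_num) (by rw [hc]; norm_num)

end

end Cfsg.Agent.H373.TS.D4
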